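import Groth.Agent.RedPts82.Infinitesimal
import Groth.Prelude.Def_Frob
import Mathlib.FieldTheory.Finite.Basic
import Mathlib.AlgebraicGeometry.Morphisms.FiniteType

/-!
The Frobenius of a scheme over a finite field, and factorisation of Frobenius through a square zero quotient.
-/

set_option autoImplicit false
set_option linter.style.haveILetI false
set_option backward.isDefEq.respectTransparency false
set_option backward.isDefEq.respectTransparency.types false
universe u

open CategoryTheory CategoryTheory.Limits AlgebraicGeometry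
open Groth.Agent.RedPts82.Infinitesimal

namespace Groth.Agent.Lang44

/-- The iterated absolute Frobenius. -/
noncomputable def fr (p : ℕ) [Fact p.Prime] (X : Scheme.{u}) [FrobSch.IsCharP X p] : ℕ → (X ⟶ X)
  | 0 => 𝟙 X
  | n + 1 => fr p X n ≫ FrobSch.frob X p

theorem fr_comp (p : ℕ) [Fact p.Prime] {X Y : Scheme.{u}} [FrobSch.IsCharP X p] [FrobSch.IsCharP Y p]
    (f : X ⟶ Y) : ∀ n, fr p X n ≫ f = f ≫ fr p Y n
  | 0 => (Category.id_comp f).trans (Category.comp_id f).symm
  | n + 1 => by
    show (fr p X n ≫ _) ≫ f = f ≫ fr p Y n ≫ _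
    rw [Category.assoc, FrobSch.frob_comp, ← Category.assoc, fr_comp p f n, Category.assoc]

theorem fr_appTop (p : ℕ) [Fact p.Prime] (X : Scheme.{u}) [FrobSch.IsCharP X p] :
    ∀ (n : ℕ) (s : Γ(X, ⊤)), (fr p X n).appTop s = s ^ p ^ n
  | 0, s => by
    show (𝟙 X : X ⟶ X).appTop s = _
    rw [Scheme.Hom.id_appTop, pow_zero, pow_one]
    rfl
  | n + 1, s => by
    show (fr p X n ≫ FrobSch.frob X p).appTop s = _
    rw [Scheme.Hom.comp_appTop]
    show (fr p X n).appTop ((FrobSch.frob X p).appTop s) = _
    rw [FrobSch.frob_appTop, fr_appTop p X n, ← pow_mul, ← pow_succ']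

variable {k : Type u} [Field k] [Fintype k]

/-- The Frobenius over a finite field acts on affine points by precomposition with Frobenius. -/
theorem exists_frobOver (A : Over (Spec (CommRingCat.of k))) :
    ∃ F : A ⟶ A, ∀ (C : Type u) [CommRing C] [Algebra k C] (x : SpecOver k C ⟶ A),
      x ≫ F = specHom (FiniteField.frobeniusAlgHom k C) ≫ x := by
  obtain ⟨n, hp, hn⟩ := FiniteField.card k (ringChar k)
  set p := ringChar k
  haveI : Fact p.Prime := ⟨hp⟩
  haveI : FrobSch.IsCharP (Spec (CommRingCat.of k)) p := inferInstance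
  haveI : FrobSch.IsCharP A.left p := FrobSch.IsCharP.of_hom A.hom p
  have key : ∀ (C : Type u) [CommRing C] [Algebra k C] [FrobSch.IsCharP (Spec (CommRingCat.of C)) p],
      fr p (Spec (CommRingCat.of C)) n = Spec.map (CommRingCat.ofHom (FiniteField.frobeniusAlgHom k C).toRingHom) := by
    intro C _ _ _
    refine ext_of_isAffine ?_
    refine CommRingCat.hom_ext (RingHom.ext fun s => ?_)
    rw [fr_appTop]
    let e := Scheme.ΓSpecIso (CommRingCat.of C)
    have hnat := Scheme.ΓSpecIso_naturality (CommRingCat.ofHom (FiniteField.frobeniusAlgHom k C).toRingHom)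
    have h := congrArg (fun t => (t ≫ e.inv).hom s) hnat
    simp only [e, Category.assoc, Iso.hom_inv_id, Category.comp_id] at h
    refine Eq.trans ?_ h.symm
    show s ^ p ^ (n : ℕ) = e.inv ((e.hom s) ^ Fintype.card k)
    rw [map_pow, hn, Iso.hom_inv_id_apply]
  have hk : fr p (Spec (CommRingCat.of k)) n = 𝟙 _ := by
    rw [key k, ← Spec.map_id]
    congr 1
    ext c
    simp [FiniteField.coe_frobeniusAlgHom, FiniteField.pow_card]
  refine ⟨Over.homMk (fr p A.left n) (by rw [fr_comp p A.hom, hk, Category.comp_id]), fun C _ _ x => ?_⟩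
  haveI : FrobSch.IsCharP (Spec (CommRingCat.of C)) p :=
    FrobSch.IsCharP.of_hom (SpecOver k C).hom p
  haveI : FrobSch.IsCharP (SpecOver k C).left p := this
  apply Over.OverMorphism.ext
  rw [Over.comp_left, Over.comp_left, specHom_left, ← key C]
  exact (fr_comp p x.left n).symm

/-- Frobenius factors through a square zero quotient. -/
theorem exists_frob_factor {C : Type u} [CommRing C] [Algebra k C] (I : Ideal C) (hI : I ^ 2 = ⊥) :
    ∃ g : (C ⧸ I) →ₐ[k] C, g.comp (Ideal.Quotient.mkₐ k I) = FiniteField.frobeniusAlgHom k C ∧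
      (Ideal.Quotient.mkₐ k I).comp g = FiniteField.frobeniusAlgHom k (C ⧸ I) := by
  have hker : ∀ a : C, a ∈ I → FiniteField.frobeniusAlgHom k C a = 0 := fun a ha => by
    have h2 : a ^ 2 = 0 := by
      have : a ^ 2 ∈ I ^ 2 := Ideal.pow_mem_pow ha 2
      simpa [hI] using this
    rw [FiniteField.coe_frobeniusAlgHom]
    exact pow_eq_zero_of_le Fintype.one_lt_card h2
  refine ⟨Ideal.Quotient.liftₐ I (FiniteField.frobeniusAlgHom k C) hker, ?_, ?_⟩
  · exact AlgHom.ext fun c => rfl
  · refine Ideal.Quotient.algHom_ext k (AlgHom.ext fun c => ?_)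
    show Ideal.Quotient.mk I (FiniteField.frobeniusAlgHom k C c) = FiniteField.frobeniusAlgHom k (C ⧸ I) (Ideal.Quotient.mk I c)
    simp [FiniteField.coe_frobeniusAlgHom]

end Groth.Agent.Lang44
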