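import Groth.Agent.AGF80.LangAlg
import Mathlib.AlgebraicGeometry.Noetherian
import Mathlib.AlgebraicGeometry.Morphisms.FiniteType
import Mathlib.RingTheory.RingHom.FinitePresentation

/-!
A morphism locally of finite type to a locally Noetherian scheme with unique infinitesimal lifts is open.
-/

set_option autoImplicit false
set_option linter.style.haveILetI false
set_option backward.isDefEq.respectTransparency false
set_option backward.isDefEq.respectTransparency.types false
universe u

open CategoryTheory AlgebraicGeometry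

namespace Groth.Agent.Lang44

theorem isOpenMap_of_uniqueLift {Z W : Scheme.{u}} (f : Z ⟶ W) [LocallyOfFiniteType f] [IsLocallyNoetherian W]
    (H : ∀ (C : CommRingCat.{u}) (I : Ideal C), I ^ 2 = ⊥ → ∀ (g : Spec C ⟶ W) (xb : Spec (CommRingCat.of (C ⧸ I)) ⟶ Z),
      xb ≫ f = Spec.map (CommRingCat.ofHom (Ideal.Quotient.mk I)) ≫ g →
      ∃! x : Spec C ⟶ Z, x ≫ f = g ∧ Spec.map (CommRingCat.ofHom (Ideal.Quotient.mk I)) ≫ x = xb) :
    IsOpenMap f := by
  intro O hO
  refine isOpen_iff_forall_mem_open.2 ?_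
  rintro _ ⟨z, hz, rfl⟩
  obtain ⟨_, ⟨U, hU, rfl⟩, hfU, -⟩ := W.isBasis_affineOpens.exists_subset_of_mem_open (Set.mem_univ (f z)) isOpen_univ
  obtain ⟨_, ⟨V, hV, rfl⟩, hzV, hVU⟩ :=
    Z.isBasis_affineOpens.exists_subset_of_mem_open (show z ∈ ((f ⁻¹ᵁ U : Z.Opens) : Set Z) from hfU) (f ⁻¹ᵁ U).2
  have e : V ≤ f ⁻¹ᵁ U := hVU
  let θ := f.appLE U V e
  have hsq : Spec.map θ ≫ hU.fromSpec = hV.fromSpec ≫ f := IsAffineOpen.SpecMap_appLE_fromSpec f hU hV e
  haveI : IsNoetherianRing Γ(W, U) := IsLocallyNoetherian.component_noetherian ⟨U, hU⟩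
  have hft : θ.hom.FiniteType := f.finiteType_appLE hU hV e
  have hfp : θ.hom.FinitePresentation := RingHom.FinitePresentation.of_finiteType.1 hft
  have hop : IsOpenMap (PrimeSpectrum.comap θ.hom) := by
    refine AGF80.isOpenMap_of_uniqueLift θ.hom hfp fun C _ I hI g fb hfb => ?_
    let mkS := Spec.map (CommRingCat.ofHom (Ideal.Quotient.mk I))
    obtain ⟨x, ⟨hx1, hx2⟩, hu⟩ := H (CommRingCat.of C) I hI (Spec.map (CommRingCat.ofHom g) ≫ hU.fromSpec)
      (Spec.map (CommRingCat.ofHom fb) ≫ hV.fromSpec) (by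
        rw [Category.assoc, ← hsq, ← Spec.map_comp_assoc, ← Spec.map_comp_assoc, ← CommRingCat.ofHom_comp]
        congr 2
        exact CommRingCat.hom_ext hfb)
    have hsurj : Function.Surjective mkS := fun q => by
      have hker : RingHom.ker (Ideal.Quotient.mk I) ≤ q.asIdeal := by
        rw [Ideal.mk_ker]
        intro a ha
        refine q.isPrime.mem_of_pow_mem 2 ?_
        have : a ^ 2 ∈ I ^ 2 := Ideal.pow_mem_pow ha 2
        rw [hI] at this
        rw [(Submodule.mem_bot _).1 this]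
        exact q.asIdeal.zero_mem
      have : q ∈ Set.range (PrimeSpectrum.comap (Ideal.Quotient.mk I)) := by
        rw [range_comap_of_surjective _ _ Ideal.Quotient.mk_surjective]
        exact hker
      exact this
    have hsub : Set.range x ⊆ Set.range hV.fromSpec := by
      rintro _ ⟨q, rfl⟩
      obtain ⟨r, rfl⟩ := hsurj q
      exact ⟨Spec.map (CommRingCat.ofHom fb) r, congr($(hx2.symm) r)⟩
    obtain ⟨φ, hφ⟩ := Spec.map_surjective (IsOpenImmersion.lift hV.fromSpec x hsub)
    have hφx : Spec.map φ ≫ hV.fromSpec = x := by rw [hφ, IsOpenImmersion.lift_fac]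
    refine ⟨φ.hom, ⟨?_, ?_⟩, fun φ' hφ' => ?_⟩
    · have h1 : θ ≫ φ = CommRingCat.ofHom g := Spec.map_injective (by
        rw [← cancel_mono hU.fromSpec, Spec.map_comp, Category.assoc, hsq, reassoc_of% hφx, hx1])
      exact congrArg CommRingCat.Hom.hom h1
    · have h2 : φ ≫ CommRingCat.ofHom (Ideal.Quotient.mk I) = CommRingCat.ofHom fb := Spec.map_injective (by
        rw [← cancel_mono hV.fromSpec, Spec.map_comp, Category.assoc, hφx, hx2])
      exact congrArg CommRingCat.Hom.hom h2
    · have h3 : Spec.map (CommRingCat.ofHom φ') ≫ hV.fromSpec = x := by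
        refine hu _ ⟨?_, ?_⟩
        · rw [Category.assoc, ← hsq, ← Spec.map_comp_assoc]
          congr 2
          exact CommRingCat.hom_ext hφ'.1
        · rw [← Spec.map_comp_assoc, ← CommRingCat.ofHom_comp, hφ'.2]
      have h4 : CommRingCat.ofHom φ' = φ := Spec.map_injective (by rw [← cancel_mono hV.fromSpec, h3, hφx])
      exact congrArg CommRingCat.Hom.hom h4
  refine ⟨f '' (O ∩ (V : Set Z)), Set.image_mono Set.inter_subset_left, ?_, z, ⟨hz, hzV⟩, rfl⟩
  have himg : f '' (O ∩ (V : Set Z)) =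
      hU.fromSpec '' ((Spec.map θ) '' (hV.fromSpec ⁻¹' O)) := by
    rw [← hV.range_fromSpec, ← Set.image_preimage_eq_inter_range, Set.image_image, Set.image_image]
    exact Set.image_congr fun q _ => congr($(hsq.symm) q)
  rw [himg]
  exact hU.fromSpec.isOpenEmbedding.isOpenMap _ (hop _ (hO.preimage hV.fromSpec.continuous))

end Groth.Agent.Lang44
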