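import Groth.Agent.Lang44.FrobOver
import Groth.Agent.Lang44.OpenMap
import Groth.Agent.Grp57.Component
import Groth.Agent.PtCount44.Frob
import Mathlib.AlgebraicGeometry.AlgClosed.Basic

/-!
Lang's theorem for a connected group scheme locally of finite type over a finite field, with a twisted Frobenius.
-/

set_option autoImplicit false
set_option linter.style.haveILetI false
set_option backward.isDefEq.respectTransparency false
set_option backward.isDefEq.respectTransparency.types false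
universe u

open CategoryTheory CategoryTheory.Limits MonoidalCategory CartesianMonoidalCategory AlgebraicGeometry
open Groth.Agent.RedPts82.Infinitesimal
open scoped MonObj GrpObj

namespace Groth.Agent.Lang44

variable {k : Type u} [Field k] [Fintype k] {K : Type u} [Field K] [Algebra k K]
variable {A : Over (Spec (CommRingCat.of k))} [GrpObj A]

/-- The endomorphism `(d, p) ↦ (d⁻¹ a(p) φ_p(F d), p)`. -/
noncomputable def langMap (F : A ⟶ A) (Φ : A ⊗ SGA7.pt (K := k) K ⟶ A) (a : SGA7.Pts K A) :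
    A ⊗ SGA7.pt (K := k) K ⟶ A ⊗ SGA7.pt (K := k) K :=
  lift ((fst A (SGA7.pt (K := k) K))⁻¹ * (snd A (SGA7.pt (K := k) K) ≫ a) *
    (lift (fst A (SGA7.pt (K := k) K) ≫ F) (snd A (SGA7.pt (K := k) K)) ≫ Φ)) (snd A (SGA7.pt (K := k) K))

omit [Fintype k] in
theorem comp_langMap (F : A ⟶ A) (Φ : A ⊗ SGA7.pt (K := k) K ⟶ A) (a : SGA7.Pts K A)
    {T : Over (Spec (CommRingCat.of k))} (x : T ⟶ A) (p : T ⟶ SGA7.pt (K := k) K) :
    lift x p ≫ langMap F Φ a = lift (x⁻¹ * (p ≫ a) * (lift (x ≫ F) p ≫ Φ)) p := by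
  simp only [langMap, comp_lift, MonObj.comp_mul, GrpObj.comp_inv, lift_fst, lift_snd, lift_fst_assoc,
    lift_snd_assoc, comp_lift_assoc]

variable (F : A ⟶ A) (Φ : A ⊗ SGA7.pt (K := k) K ⟶ A) (a : SGA7.Pts K A)

theorem langMap_uniqueLift
    (hF : ∀ (C : Type u) [CommRing C] [Algebra k C] (x : SpecOver k C ⟶ A),
      x ≫ F = specHom (FiniteField.frobeniusAlgHom k C) ≫ x)
    (C : CommRingCat.{u}) (I : Ideal C) (hI : I ^ 2 = ⊥) (g : Spec C ⟶ (A ⊗ SGA7.pt (K := k) K).left)
    (xb : Spec (CommRingCat.of (C ⧸ I)) ⟶ (A ⊗ SGA7.pt (K := k) K).left)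
    (h : xb ≫ (langMap F Φ a).left = Spec.map (CommRingCat.ofHom (Ideal.Quotient.mk I)) ≫ g) :
    ∃! x : Spec C ⟶ (A ⊗ SGA7.pt (K := k) K).left,
      x ≫ (langMap F Φ a).left = g ∧ Spec.map (CommRingCat.ofHom (Ideal.Quotient.mk I)) ≫ x = xb := by
  obtain ⟨alg, halg⟩ := Spec.map_surjective (g ≫ (A ⊗ SGA7.pt (K := k) K).hom)
  letI : Algebra k C := alg.hom.toAlgebra
  have hover : ∀ x : Spec C ⟶ (A ⊗ SGA7.pt (K := k) K).left, x ≫ (langMap F Φ a).left = g →
      x ≫ (A ⊗ SGA7.pt (K := k) K).hom = Spec.map (CommRingCat.ofHom (algebraMap k C)) := fun x hx => by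
    rw [← Over.w (langMap F Φ a), reassoc_of% hx, ← halg]
    rfl
  let gO : SpecOver k C ⟶ A ⊗ SGA7.pt (K := k) K := Over.homMk g halg.symm
  let mk : SpecOver k (C ⧸ I) ⟶ SpecOver k C := specHom (Ideal.Quotient.mkₐ k I)
  let xbO : SpecOver k (C ⧸ I) ⟶ A ⊗ SGA7.pt (K := k) K := Over.homMk xb (by
    rw [← Over.w (langMap F Φ a), reassoc_of% h, ← halg, ← Spec.map_comp]
    rfl)
  have hb : xbO ≫ langMap F Φ a = mk ≫ gO := Over.OverMorphism.ext h
  obtain ⟨φ, hφ1, hφ2⟩ := exists_frob_factor (k := k) I hI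
  let y := gO ≫ fst _ _
  let p := gO ≫ snd _ _
  let xbar := xbO ≫ fst _ _
  let Fx := specHom φ ≫ xbar
  have hxb : xbO = lift xbar (mk ≫ p) := by
    apply CartesianMonoidalCategory.hom_ext
    · rw [lift_fst]
    · rw [lift_snd, ← Category.assoc, ← hb, Category.assoc, langMap, lift_snd]
  have hFb : mk ≫ Fx = xbar ≫ F := by
    rw [hF, ← Category.assoc, specHom_comp, hφ2]
  have hy : mk ≫ y = xbar⁻¹ * ((mk ≫ p) ≫ a) * (lift (mk ≫ Fx) (mk ≫ p) ≫ Φ) := by
    have h1 := congrArg (fun t => t ≫ fst _ _) hb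
    rw [hxb, comp_langMap, lift_fst, ← hFb, Category.assoc] at h1
    exact h1.symm
  let x : SpecOver k C ⟶ A := (p ≫ a) * (lift Fx p ≫ Φ) * y⁻¹
  have hxmk : mk ≫ x = xbar := by
    simp only [x, MonObj.comp_mul, GrpObj.comp_inv, comp_lift_assoc]
    rw [hy]
    simp only [Category.assoc]
    group
  have hxF : ∀ x' : SpecOver k C ⟶ A, mk ≫ x' = xbar → x' ≫ F = Fx := fun x' hx' => by
    rw [hF, ← hφ1, ← specHom_comp, Category.assoc]
    exact congrArg (specHom φ ≫ ·) hx'
  have hxL : lift x p ≫ langMap F Φ a = gO := by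
    rw [comp_langMap, hxF x hxmk]
    apply CartesianMonoidalCategory.hom_ext
    · rw [lift_fst]
      simp only [x]
      show _ = y
      group
    · rw [lift_snd]
  have hxmk' : mk ≫ lift x p = xbO := by rw [comp_lift, hxmk, hxb]
  refine ⟨(lift x p).left, ⟨congrArg CommaMorphism.left hxL, congrArg CommaMorphism.left hxmk'⟩, fun x' hx' => ?_⟩
  let x'O : SpecOver k C ⟶ A ⊗ SGA7.pt (K := k) K := Over.homMk x' (hover x' hx'.1)
  have h1 : x'O ≫ langMap F Φ a = gO := Over.OverMorphism.ext hx'.1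
  have h2 : mk ≫ x'O = xbO := Over.OverMorphism.ext hx'.2
  have hs : x'O ≫ snd _ _ = p := by
    show _ = gO ≫ snd _ _
    rw [← h1, Category.assoc, langMap, lift_snd]
  have hf : x'O ≫ fst _ _ = x := by
    have hm : mk ≫ x'O ≫ fst _ _ = xbar := by rw [← Category.assoc, h2]
    have h3 : y = gO ≫ fst _ _ := rfl
    rw [← h1, show x'O = lift (x'O ≫ fst _ _) p by
      rw [← hs, ← comp_lift, lift_fst_snd, Category.comp_id], comp_langMap, lift_fst, hxF _ hm] at h3
    show _ = p ≫ a * (lift Fx p ≫ Φ) * y⁻¹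
    rw [h3]
    group
  show x'O.left = (lift x p).left
  rw [← hs, ← hf, ← comp_lift, lift_fst_snd, Category.comp_id]

theorem isOpenMap_langMap [LocallyOfFiniteType A.hom]
    (hF : ∀ (C : Type u) [CommRing C] [Algebra k C] (x : SpecOver k C ⟶ A),
      x ≫ F = specHom (FiniteField.frobeniusAlgHom k C) ≫ x) :
    IsOpenMap (langMap F Φ a).left := by
  haveI hq : LocallyOfFiniteType (snd A (SGA7.pt (K := k) K)).left :=
    MorphismProperty.pullback_snd (P := @LocallyOfFiniteType) _ _ inferInstance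
  haveI : IsLocallyNoetherian (SGA7.pt (K := k) K).left := inferInstanceAs (IsLocallyNoetherian (Spec (CommRingCat.of K)))
  haveI : IsLocallyNoetherian (A ⊗ SGA7.pt (K := k) K).left :=
    LocallyOfFiniteType.isLocallyNoetherian (snd A (SGA7.pt (K := k) K)).left
  have h : (langMap F Φ a).left ≫ (snd A (SGA7.pt (K := k) K)).left = (snd A (SGA7.pt (K := k) K)).left := by
    rw [← Over.comp_left, langMap, lift_snd]
  haveI : LocallyOfFiniteType ((langMap F Φ a).left ≫ (snd A (SGA7.pt (K := k) K)).left) := by rw [h]; exact hq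
  haveI : LocallyOfFiniteType (langMap F Φ a).left :=
    locallyOfFiniteType_of_comp (langMap F Φ a).left (snd A (SGA7.pt (K := k) K)).left
  exact isOpenMap_of_uniqueLift _ fun C I hI g xb hh => langMap_uniqueLift F Φ a hF C I hI g xb hh

omit [Fintype k] in
theorem irreducibleSpace_bc [ConnectedSpace A.left] : IrreducibleSpace ↥(A ⊗ SGA7.pt (K := k) K).left := by
  have h := Grp57.isIrreducible_preimage_connectedComponent_unit A (algebraMap k K)
  rw [PreconnectedSpace.connectedComponent_eq_univ, Set.preimage_univ] at h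
  change IsIrreducible (Set.univ : Set ↥(A ⊗ SGA7.pt (K := k) K).left) at h
  have : PreirreducibleSpace ↥(A ⊗ SGA7.pt (K := k) K).left := ⟨h.2⟩
  exact { toNonempty := ⟨h.1.some⟩ }

theorem frob_smul [IsAlgClosure k K] {X : Over (Spec (CommRingCat.of k))} (x : SGA7.Pts K X) :
    PtCount44.frob k K • x = specHom (FiniteField.frobeniusAlgHom k K) ≫ x := by
  rw [GalTw.pts_smul_def]
  congr 1
  apply Over.OverMorphism.ext
  show Spec.map _ = Spec.map _
  congr 1
  ext c
  exact (PtCount44.frob_apply c).trans (by rw [Nat.card_eq_fintype_card]; rfl)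

/-- Lang's theorem with a twist. -/
theorem exists_lang [IsAlgClosure k K] [LocallyOfFiniteType A.hom] [ConnectedSpace A.left]
    (hmul : ∀ {T : Over (Spec (CommRingCat.of k))} (p : T ⟶ SGA7.pt (K := k) K) (x y : T ⟶ A),
      lift (x * y) p ≫ Φ = (lift x p ≫ Φ) * (lift y p ≫ Φ)) :
    ∃ d : SGA7.Pts K A, d⁻¹ * (lift (PtCount44.frob k K • d) (𝟙 _) ≫ Φ) = a := by
  haveI : IsAlgClosed K := IsAlgClosure.isAlgClosed k
  obtain ⟨F, hF⟩ := exists_frobOver (k := k) A
  haveI := irreducibleSpace_bc (K := K) (A := A)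
  let q := (snd A (SGA7.pt (K := k) K)).left
  haveI hq : LocallyOfFiniteType q :=
    MorphismProperty.pullback_snd (P := @LocallyOfFiniteType) _ _ inferInstance
  haveI : JacobsonSpace ↥(A ⊗ SGA7.pt (K := k) K).left := LocallyOfFiniteType.jacobsonSpace (Y := Spec _) q
  let U : SGA7.Pts K A → Set ↥(A ⊗ SGA7.pt (K := k) K).left := fun b => Set.range (langMap F Φ b).left
  have hopen : ∀ b, IsOpen (U b) := fun b => (isOpenMap_langMap F Φ b hF).isOpen_range
  have hne : ∀ b, (U b).Nonempty := fun b => Set.range_nonempty _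
  obtain ⟨z, hz, hzc⟩ := nonempty_inter_closedPoints
    (nonempty_preirreducible_inter (hopen a) (hopen 1) (hne a) (hne 1))
    ((hopen a).inter (hopen 1)).isLocallyClosed
  rw [mem_closedPoints_iff] at hzc
  let zp := pointOfClosedPoint q z hzc
  have pts : ∀ b, z ∈ U b → ∃ x : SGA7.Pts K A,
      (x⁻¹ * b * (lift (PtCount44.frob k K • x) (𝟙 _) ≫ Φ)).left = zp ≫ (fst A (SGA7.pt (K := k) K)).left := by
    intro b hb
    obtain ⟨w₀, hw₀⟩ := hb
    have hcl : IsClosed ((langMap F Φ b).left ⁻¹' {z}) := hzc.preimage (langMap F Φ b).left.continuous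
    obtain ⟨w, hw, hwc⟩ := nonempty_inter_closedPoints ⟨w₀, hw₀⟩ hcl.isLocallyClosed
    rw [mem_closedPoints_iff] at hwc
    let wp := pointOfClosedPoint q w hwc
    let u : SGA7.pt (K := k) K ⟶ A ⊗ SGA7.pt (K := k) K := Over.homMk wp (by
      show wp ≫ _ = _
      rw [← Over.w (snd A (SGA7.pt (K := k) K)), ← Category.assoc, pointOfClosedPoint_comp, Category.id_comp])
    have hu : u ≫ snd _ _ = 𝟙 _ := Over.OverMorphism.ext (pointOfClosedPoint_comp q w hwc)
    refine ⟨u ≫ fst _ _, ?_⟩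
    have h1 : (u ≫ langMap F Φ b).left = zp := by
      refine ext_of_apply_closedPoint_eq q ?_ (pointOfClosedPoint_comp q z hzc) ?_
      · show (u ≫ langMap F Φ b).left ≫ (snd A (SGA7.pt (K := k) K)).left = _
        rw [← Over.comp_left, Category.assoc, langMap, lift_snd, hu]
        rfl
      · show (langMap F Φ b).left (wp _) = zp _
        rw [pointOfClosedPoint_apply, pointOfClosedPoint_apply]
        exact hw
    have h2 : u = lift (u ≫ fst _ _) (𝟙 _) := by
      rw [← hu, ← comp_lift, lift_fst_snd, Category.comp_id]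
    rw [← h1, ← Over.comp_left]
    congr 1
    conv_rhs => rw [h2, comp_langMap, lift_fst, Category.id_comp]
    rw [hF, ← frob_smul]
  obtain ⟨x, hx⟩ := pts a hz.1
  obtain ⟨y, hy⟩ := pts 1 hz.2
  have he : x⁻¹ * a * (lift (PtCount44.frob k K • x) (𝟙 _) ≫ Φ) =
      y⁻¹ * (lift (PtCount44.frob k K • y) (𝟙 _) ≫ Φ) := by
    apply Over.OverMorphism.ext
    rw [← mul_one y⁻¹, hx, hy]
  refine ⟨y * x⁻¹, ?_⟩
  let φ : SGA7.Pts K A →* SGA7.Pts K A := MonoidHom.mk' (fun d => lift d (𝟙 _) ≫ Φ) (hmul (𝟙 _))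
  show (y * x⁻¹)⁻¹ * φ (PtCount44.frob k K • (y * x⁻¹)) = a
  change x⁻¹ * a * φ (PtCount44.frob k K • x) = y⁻¹ * φ (PtCount44.frob k K • y) at he
  rw [smul_mul', smul_inv', map_mul, map_inv]
  have e2 : φ (PtCount44.frob k K • y) = y * (x⁻¹ * a * φ (PtCount44.frob k K • x)) := by rw [he]; group
  rw [e2]
  group

end Groth.Agent.Lang44
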